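import Groth.Prelude.Def_RelSpec
import Mathlib.AlgebraicGeometry.Cover.Directed

/-!
# Morphisms into a relative spectrum
-/

universe u

open CategoryTheory Limits AlgebraicGeometry Opposite TopologicalSpace

set_option backward.isDefEq.respectTransparency false
set_option backward.isDefEq.respectTransparency.types false
set_option backward.defeqAttrib.useBackward true

namespace Groth.Agent.QCGen12

open Scheme.AffineZariskiSite Scheme

variable {S X : Scheme.{u}} (A : RelSpec.QCAlg S) (f : X ⟶ S)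
  (ω : A.presheaf ⟶ f.base _* X.presheaf) (hω : A.str ≫ ω = f.c)

/-- The morphism to `Spec A` given by an algebra map. -/
noncomputable def lift : X ⟶ A.spec :=
  Scheme.OpenCover.glueMorphismsOfLocallyDirected ((directedCover S).pullback₁ f)
    (fun U => (pullbackRestrictIsoRestrict f _).hom ≫
      (f ⁻¹ᵁ U.1).toSpecΓ ≫ Spec.map (ω.app (op U.1)) ≫ A.ι U.1 U.2) fun {U V : S.AffineZariskiSite} i => by
  have : (pullbackRestrictIsoRestrict f U.1).inv ≫
      Cover.trans ((directedCover S).pullback₁ f) i ≫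
      (pullbackRestrictIsoRestrict f V.1).hom = X.homOfLE
        (f.preimage_mono (toOpens_mono i.1.1)) := by
    rw [← cancel_mono (Scheme.Opens.ι _)]
    simp +instances [Cover.trans, Cover.locallyDirectedPullbackCover]
  have nat : Spec.map (X.presheaf.map (homOfLE (f.preimage_mono (toOpens_mono i.1.1))).op) ≫
      Spec.map (ω.app (op V.1)) =
      Spec.map (ω.app (op U.1)) ≫ Spec.map (A.presheaf.map (homOfLE (toOpens_mono i.1.1)).op) := by
    rw [← Spec.map_comp, ← Spec.map_comp]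
    exact congrArg Spec.map (ω.naturality (homOfLE (toOpens_mono i.1.1)).op).symm
  rw [← Iso.inv_comp_eq, reassoc_of% this, ← Scheme.Opens.toSpecΓ_SpecMap_presheaf_map_assoc,
    reassoc_of% nat, A.ι_res i]

theorem ι_lift (U : S.Opens) (hU : IsAffineOpen U) :
    (f ⁻¹ᵁ U).ι ≫ lift A f ω = (f ⁻¹ᵁ U).toSpecΓ ≫ Spec.map (ω.app (op U)) ≫ A.ι U hU := by
  rw [← cancel_epi (pullbackRestrictIsoRestrict f U).hom, ← Category.assoc]
  let U' : S.AffineZariskiSite := ⟨U, hU⟩
  trans ((directedCover S).pullback₁ f).f U' ≫ lift A f ω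
  · congr 1; simp [U']
  delta lift
  generalize_proofs
  exact Scheme.OpenCover.map_glueMorphismsOfLocallyDirected _ _ (by assumption) _

include hω in
theorem lift_π : lift A f ω ≫ A.π = f := by
  refine Scheme.Cover.hom_ext (X.openCoverOfIsOpenCover (fun U : S.affineOpens => f ⁻¹ᵁ U.1)
    (.comap (iSup_affineOpens_eq_top S) f.base.1)) _ _ fun U => ?_
  change (f ⁻¹ᵁ U.1).ι ≫ lift A f ω ≫ A.π = (f ⁻¹ᵁ U.1).ι ≫ f
  rw [reassoc_of% (ι_lift A f ω U.1 U.2), A.ι_π, ← Spec.map_comp_assoc, ← NatTrans.comp_app, hω]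
  change (f ⁻¹ᵁ U.1).toSpecΓ ≫ Spec.map (f.app U.1) ≫ U.2.fromSpec = _
  simp

theorem fromSpec_lift (U : S.Opens) (hU : IsAffineOpen U) (hV : IsAffineOpen (f ⁻¹ᵁ U)) :
    hV.fromSpec ≫ lift A f ω = Spec.map (ω.app (op U)) ≫ A.ι U hU := by
  rw [IsAffineOpen.fromSpec, Category.assoc, ι_lift A f ω U hU, hV.isoSpec_inv_toSpecΓ_assoc]

theorem isIso_gammaAff (A : RelSpec.QCAlg S) (U : S.Opens) (hU : IsAffineOpen U) :
    IsIso (A.gammaAff U hU) := by
  have key : ∀ (W : A.spec.Opens), W = (A.ι U hU).opensRange → ∀ e : ⊤ ≤ A.ι U hU ⁻¹ᵁ W,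
      IsIso ((A.ι U hU).appLE W ⊤ e) := by
    rintro _ rfl e
    have : IsIso ((A.ι U hU).app (A.ι U hU).opensRange) := Scheme.Hom.isIso_app _ _ le_rfl
    rw [Scheme.Hom.appLE, show (homOfLE e) = eqToHom (le_antisymm le_top e).symm from
      Subsingleton.elim _ _]
    infer_instance
  unfold RelSpec.QCAlg.gammaAff
  haveI := key _ (A.π_preimage U hU) (A.top_le_preimage U hU)
  infer_instance

end Groth.Agent.QCGen12
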