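import Groth.Agent.Lib.QCGen12.Basic
import Groth.Agent.Lib.QCGen12.Lift
import Mathlib.AlgebraicGeometry.Morphisms.Finite
import Mathlib.AlgebraicGeometry.Morphisms.Integral
import Mathlib.AlgebraicGeometry.Morphisms.FiniteType

/-!
# Replacing an integral morphism by a finite one
-/

universe u

open CategoryTheory Limits AlgebraicGeometry Opposite TopologicalSpace

set_option backward.isDefEq.respectTransparency false
set_option backward.isDefEq.respectTransparency.types false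

namespace Groth.Agent.QCGen12

open RelSpec

theorem isOpenImmersion_of_restrict {X Z : Scheme.{u}} (j : X ⟶ Z) {ι : Type*} (V : ι → Z.Opens)
    (hr : ∀ x, ∃ i, j x ∈ V i) (h : ∀ i, IsOpenImmersion (j ∣_ V i)) : IsOpenImmersion j := by
  let U : Z.Opens := ⨆ i, V i
  have htop : j ⁻¹ᵁ U = ⊤ := top_le_iff.1 fun x _ => Opens.mem_iSup.2 (hr x)
  haveI : IsOpenImmersion (j ∣_ U) := by
    refine IsZariskiLocalAtTarget.of_iSup_eq_top (fun i => U.ι ⁻¹ᵁ V i) ?_ fun i => ?_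
    · refine top_le_iff.1 fun z _ => ?_
      obtain ⟨i, hi⟩ := Opens.mem_iSup.1 z.2
      exact Opens.mem_iSup.2 ⟨i, hi⟩
    · have e : U.ι ''ᵁ (U.ι ⁻¹ᵁ V i) = V i := by
        rw [Scheme.Hom.image_preimage_eq_opensRange_inf, Scheme.Opens.opensRange_ι,
          inf_eq_right.2 (le_iSup V i)]
      refine (MorphismProperty.arrow_mk_iso_iff @IsOpenImmersion (morphismRestrictRestrict j U _ ≪≫
        morphismRestrictEq j e)).2 (h i)
  haveI : IsIso (j ⁻¹ᵁ U).ι := by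
    rw [htop]; exact inferInstanceAs (IsIso X.topIso.hom)
  rw [show j = inv (j ⁻¹ᵁ U).ι ≫ j ∣_ U ≫ U.ι by simp]
  infer_instance

/-- The key algebra: a subalgebra containing `c` and numerators of generators of `C[1/c]`. -/
theorem isLocalization_away_of_generators {R B C L : Type u} [CommRing R] [CommRing B] [CommRing C] [CommRing L]
    [Algebra C L] (s : R →+* B) (φ : B →+* C) (hφ : Function.Injective φ) (y : B)
    [IsLocalization.Away (φ y) L] [Algebra B L]
    (hL : ∀ b : B, algebraMap B L b = algebraMap C L (φ b)) (G : Set L)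
    (hG : ∀ z : L, z ∈ Subring.closure (Set.range (fun r => algebraMap C L (φ (s r))) ∪ G))
    (hnum : ∀ z ∈ G, ∃ (b : B) (n : ℕ), z * algebraMap C L (φ y) ^ n = algebraMap C L (φ b)) :
    IsLocalization.Away y L := by
  refine IsLocalization.Away.mk y (by rw [hL]; exact IsLocalization.Away.algebraMap_isUnit (φ y))
    (fun z => ?_) (fun a b h => ?_)
  · obtain ⟨b, n, h⟩ : ∃ (b : B) (n : ℕ), z * algebraMap C L (φ y) ^ n = algebraMap C L (φ b) := by
      induction hG z using Subring.closure_induction with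
      | mem z hz =>
        rcases hz with ⟨r, rfl⟩ | hz
        · exact ⟨s r, 0, by simp⟩
        · exact hnum z hz
      | zero => exact ⟨0, 0, by simp⟩
      | one => exact ⟨1, 0, by simp⟩
      | neg z _ h => obtain ⟨b, n, h⟩ := h; exact ⟨-b, n, by simp [h]⟩
      | add z w _ _ hz hw =>
        obtain ⟨b, n, hb⟩ := hz
        obtain ⟨d, m, hd⟩ := hw
        refine ⟨b * y ^ m + d * y ^ n, n + m, ?_⟩
        simp only [map_add, map_mul, map_pow, ← hb, ← hd]
        ring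
      | mul z w _ _ hz hw =>
        obtain ⟨b, n, hb⟩ := hz
        obtain ⟨d, m, hd⟩ := hw
        refine ⟨b * d, n + m, ?_⟩
        simp only [map_mul, ← hb, ← hd]
        ring
    exact ⟨n, b, by rw [hL, hL, h]⟩
  · rw [hL, hL] at h
    obtain ⟨⟨_, n, rfl⟩, hn⟩ := (IsLocalization.eq_iff_exists (Submonoid.powers (φ y)) L).mp h
    exact ⟨n, hφ (by rw [map_mul, map_mul, map_pow]; exact hn)⟩

/-- A quasi-compact open of finite type in a scheme integral over a qcqs scheme embeds in a finite one. -/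
theorem exists_finite_factor {Z S : Scheme.{u}} [CompactSpace S] [QuasiSeparatedSpace S]
    (π : Z ⟶ S) [IsIntegralHom π] (P : Z.Opens) (hP : IsCompact (P : Set Z))
    [LocallyOfFiniteType (P.ι ≫ π)] :
    ∃ (T : Scheme.{u}) (j : P.toScheme ⟶ T) (ρ : T ⟶ S),
      IsOpenImmersion j ∧ IsFinite ρ ∧ j ≫ ρ = P.ι ≫ π := by
  classical
  let B := QCAlg.directImage π
  obtain ⟨s, hs, hcov⟩ := M1.exists_finite_affine_iSup (X := S) (U := ⊤) isCompact_univ
  haveI : QuasiSeparatedSpace Z := quasiSeparatedSpace_of_quasiSeparated π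
  have hchart : ∀ V : S.affineOpens, ∃ t : Finset Γ(Z, π ⁻¹ᵁ V.1),
      (∀ c ∈ t, Z.basicOpen c ≤ P) ∧ ∀ z ∈ P, π z ∈ V.1 → ∃ c ∈ t, z ∈ Z.basicOpen c := by
    intro V
    have hV := V.2.preimage π
    have hc : IsCompact ((P ⊓ π ⁻¹ᵁ V.1 : Z.Opens) : Set Z) :=
      QuasiSeparatedSpace.inter_isCompact _ _ P.2 hP (π ⁻¹ᵁ V.1).2 hV.isCompact
    have hx : ∀ z : ((P ⊓ π ⁻¹ᵁ V.1 : Z.Opens) : Set Z),
        ∃ c : Γ(Z, π ⁻¹ᵁ V.1), Z.basicOpen c ≤ P ∧ z.1 ∈ Z.basicOpen c := fun z =>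
      hV.exists_basicOpen_le ⟨z.1, z.2.1⟩ z.2.2
    choose c hcP hzc using hx
    obtain ⟨u, hu⟩ := hc.elim_finite_subcover (fun z => (Z.basicOpen (c z) : Set Z))
      (fun z => (Z.basicOpen (c z)).2) fun z hz => Set.mem_iUnion.2 ⟨⟨z, hz⟩, hzc _⟩
    refine ⟨u.image c, fun a ha => ?_, fun z hzP hzV => ?_⟩
    · obtain ⟨i, -, rfl⟩ := Finset.mem_image.1 ha
      exact hcP i
    · obtain ⟨i, hi, hzi⟩ := Set.mem_iUnion₂.1 (hu ⟨hzP, hzV⟩)
      exact ⟨c i, Finset.mem_image_of_mem c hi, hzi⟩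
  choose t htP htcov using hchart
  have hft : ∀ (V : S.affineOpens) (c : Γ(Z, π ⁻¹ᵁ V.1)), Z.basicOpen c ≤ P →
      (π.appLE V.1 (Z.basicOpen c) (Z.basicOpen_le c)).hom.FiniteType := by
    intro V c hc
    have hD := (V.2.preimage π).basicOpen c
    haveI : LocallyOfFiniteType (Spec.map (π.appLE V.1 (Z.basicOpen c) (Z.basicOpen_le c)) ≫
        V.2.fromSpec) := by
      rw [IsAffineOpen.SpecMap_appLE_fromSpec π V.2 hD (Z.basicOpen_le c), IsAffineOpen.fromSpec,
        ← Z.homOfLE_ι hc]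
      simp only [Category.assoc]
      infer_instance
    haveI := locallyOfFiniteType_of_comp
      (Spec.map (π.appLE V.1 (Z.basicOpen c) (Z.basicOpen_le c))) V.2.fromSpec
    exact (HasRingHomProperty.Spec_iff (P := @LocallyOfFiniteType)).1 ‹_›
  have hgens : ∀ (V : S.affineOpens) (c : Γ(Z, π ⁻¹ᵁ V.1)), ∃ l : List Γ(Z, π ⁻¹ᵁ V.1),
      Z.basicOpen c ≤ P → ∀ (B' : QCAlg S) (φ : B' ⟶ B),
        Function.Injective (φ.hom.app (op V.1)).hom →
        (∀ a ∈ l, a ∈ Set.range (φ.hom.app (op V.1)).hom) →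
        ∃ y : B'.presheaf.obj (op V.1), (φ.hom.app (op V.1)).hom y = c ∧
          letI := (φ.hom.app (op V.1) ≫
            Z.presheaf.map (homOfLE (Z.basicOpen_le c)).op).hom.toAlgebra
          IsLocalization.Away y Γ(Z, Z.basicOpen c) := by
    intro V c
    by_cases hc : Z.basicOpen c ≤ P
    swap; · exact ⟨[], fun h => absurd h hc⟩
    letI : Algebra Γ(S, V.1) Γ(Z, Z.basicOpen c) :=
      (π.appLE V.1 (Z.basicOpen c) (Z.basicOpen_le c)).hom.toAlgebra
    haveI : Algebra.FiniteType Γ(S, V.1) Γ(Z, Z.basicOpen c) := hft V c hc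
    haveI : IsLocalization.Away c Γ(Z, Z.basicOpen c) := (V.2.preimage π).isLocalization_basicOpen c
    obtain ⟨G, hG⟩ := (Algebra.FiniteType.out :
      (⊤ : Subalgebra Γ(S, V.1) Γ(Z, Z.basicOpen c)).FG)
    choose num hnum using IsLocalization.surj (Submonoid.powers c) (S := Γ(Z, Z.basicOpen c))
    refine ⟨c :: G.toList.map fun z => (num z).1, fun _ B' φ hφ hl => ?_⟩
    obtain ⟨y, hy⟩ := hl c (List.mem_cons_self ..)
    refine ⟨y, hy, ?_⟩
    let ψ : B'.presheaf.obj (op V.1) →+* Γ(Z, π ⁻¹ᵁ V.1) := (φ.hom.app (op V.1)).hom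
    letI := (φ.hom.app (op V.1) ≫ Z.presheaf.map (homOfLE (Z.basicOpen_le c)).op).hom.toAlgebra
    haveI : IsLocalization.Away (ψ y) Γ(Z, Z.basicOpen c) := by rw [show ψ y = c from hy]; infer_instance
    refine isLocalization_away_of_generators (B'.str.app (op V.1)).hom ψ hφ y (fun _ => rfl) G
      (fun z => ?_) (fun z hz => ?_)
    · have hz : z ∈ Algebra.adjoin Γ(S, V.1) (G : Set Γ(Z, Z.basicOpen c)) := hG ▸ Algebra.mem_top
      rw [Algebra.mem_adjoin_iff] at hz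
      refine Subring.closure_mono (Set.union_subset_union_left _ ?_) hz
      rintro _ ⟨r, rfl⟩
      exact ⟨r, congrArg (fun q => (Z.presheaf.map (homOfLE (Z.basicOpen_le c)).op).hom q)
        (ConcreteCategory.congr_hom (NatTrans.congr_app φ.comm (op V.1)) r)⟩
    · obtain ⟨b, hb⟩ := hl (num z).1 (List.mem_cons_of_mem _
        (List.mem_map.2 ⟨z, Finset.mem_toList.2 hz, rfl⟩))
      obtain ⟨n, hn⟩ := (num z).2.2
      refine ⟨b, n, ?_⟩
      rw [show ψ y = c from hy, show ψ b = (num z).1 from hb, ← map_pow]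
      exact (congrArg (fun q => z * algebraMap _ Γ(Z, Z.basicOpen c) q) hn).trans (hnum z)
  choose l hl using hgens
  obtain ⟨B', φ, hinj, hfin, hmem⟩ := exists_subalgebra B
    (hs.toFinset.toList.flatMap fun V => (t V).toList.flatMap fun c => (l V c).map fun b => ⟨V, b⟩)
  let k : Z ⟶ B'.spec := lift B' π φ.hom
  have hk : k ≫ B'.π = π := lift_π B' π φ.hom φ.comm
  haveI : IsFinite B'.π := by
    refine ⟨fun V hV => ?_⟩
    haveI := isIso_gammaAff B' V hV
    have h2 : (B'.str.app (op V)).hom.Finite := by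
      refine RingHom.IsIntegral.to_finite (fun x => ?_) (hfin ⟨V, hV⟩)
      obtain ⟨p, hp, hpx⟩ := IsIntegralHom.isIntegral_app π V hV ((φ.hom.app (op V)).hom x)
      refine ⟨p, hp, hinj V ?_⟩
      rw [map_zero, Polynomial.hom_eval₂, ← CommRingCat.hom_comp, ← NatTrans.comp_app, φ.comm]
      exact hpx
    rw [← (IsIso.comp_inv_eq _).2 (B'.π_app_gammaAff V hV).symm, CommRingCat.hom_comp]
    exact (RingHom.Finite.of_surjective _
      (ConcreteCategory.bijective_of_isIso (inv (B'.gammaAff V hV))).2).comp h2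
  let ι := Σ V : s, t V.1
  have hy : ∀ i : ι, ∃ y : B'.presheaf.obj (op i.1.1.1),
      (φ.hom.app (op i.1.1.1)).hom y = i.2.1 ∧
      letI := (φ.hom.app (op i.1.1.1) ≫
        Z.presheaf.map (homOfLE (Z.basicOpen_le i.2.1)).op).hom.toAlgebra
      IsLocalization.Away y Γ(Z, Z.basicOpen i.2.1) := by
    intro i
    refine hl _ _ (htP _ _ i.2.2) B' φ (hinj _) fun a ha => hmem ⟨i.1.1, a⟩ ?_
    simp only [List.mem_flatMap, List.mem_map, Finset.mem_toList, Set.Finite.mem_toFinset]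
    exact ⟨_, i.1.2, _, i.2.2, a, ha, rfl⟩
  choose y hyc hloc using hy
  let O : ι → B'.spec.Opens := fun i =>
    B'.ι i.1.1.1 i.1.1.2 ''ᵁ PrimeSpectrum.basicOpen (y i)
  have hkO : ∀ i, k ⁻¹ᵁ O i = Z.basicOpen i.2.1 := by
    intro i
    obtain ⟨⟨⟨V, hV⟩, hVs⟩, c, hc⟩ := i
    have hπV := hV.preimage π
    have hle : k ⁻¹ᵁ O ⟨⟨⟨V, hV⟩, hVs⟩, c, hc⟩ ≤ hπV.fromSpec.opensRange := by
      rw [IsAffineOpen.opensRange_fromSpec]
      refine le_trans (k.preimage_mono (Scheme.Hom.image_le_opensRange _ _)) ?_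
      rw [← B'.π_preimage V hV, ← Scheme.Hom.comp_preimage, hk]
    rw [← inf_eq_right.2 hle, ← Scheme.Hom.image_preimage_eq_opensRange_inf,
      ← Scheme.Hom.comp_preimage, fromSpec_lift B' π φ.hom V hV hπV, Scheme.Hom.comp_preimage,
      Scheme.Hom.preimage_image_eq, ← hπV.fromSpec_image_basicOpen c]
    congr 1
    exact congrArg PrimeSpectrum.basicOpen (hyc ⟨⟨⟨V, hV⟩, hVs⟩, c, hc⟩)
  let j : P.toScheme ⟶ B'.spec := P.ι ≫ k
  have hrange : ∀ z : P.toScheme, ∃ i, j z ∈ O i := by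
    intro z
    have hz : π z.1 ∈ (⊤ : S.Opens) := trivial
    rw [hcov, Opens.mem_iSup] at hz
    obtain ⟨V, hzV⟩ := hz
    obtain ⟨c, hc, hzc⟩ := htcov V.1 z.1 z.2 hzV
    refine ⟨⟨V, c, hc⟩, ?_⟩
    rw [← hkO ⟨V, c, hc⟩] at hzc
    exact hzc
  haveI : IsOpenImmersion j := by
    refine isOpenImmersion_of_restrict j O hrange fun i => ?_
    suffices IsOpenImmersion ((j ⁻¹ᵁ O i).ι ≫ j) by
      haveI : IsOpenImmersion (j ∣_ O i ≫ (O i).ι) := by rw [morphismRestrict_ι]; exact this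
      exact IsOpenImmersion.of_comp _ (O i).ι
    obtain ⟨⟨⟨V, hV⟩, hVs⟩, c, hc⟩ := i
    have hle : Z.basicOpen c ≤ P := htP _ _ hc
    have hD := (hV.preimage π).basicOpen c
    have hrng : Set.range ((j ⁻¹ᵁ O ⟨⟨⟨V, hV⟩, hVs⟩, c, hc⟩).ι ≫ P.ι) = Set.range hD.fromSpec := by
      rw [IsAffineOpen.range_fromSpec, ← hkO ⟨⟨⟨V, hV⟩, hVs⟩, c, hc⟩]
      ext z
      constructor
      · rintro ⟨⟨w, hw⟩, rfl⟩; exact hw
      · intro hz
        exact ⟨⟨⟨z, hle (by rw [← hkO ⟨⟨⟨V, hV⟩, hVs⟩, c, hc⟩]; exact hz)⟩, hz⟩, rfl⟩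
    have hDk : hD.fromSpec ≫ k = Spec.map (φ.hom.app (op V) ≫
        Z.presheaf.map (homOfLE (Z.basicOpen_le c)).op) ≫ B'.ι V hV := by
      rw [← IsAffineOpen.map_fromSpec (hV.preimage π) hD (homOfLE (Z.basicOpen_le c)).op,
        Category.assoc, fromSpec_lift B' π φ.hom V hV (hV.preimage π), Spec.map_comp, Category.assoc]
    haveI : IsOpenImmersion (hD.fromSpec ≫ k) := by
      rw [hDk]
      letI := (φ.hom.app (op V) ≫ Z.presheaf.map (homOfLE (Z.basicOpen_le c)).op).hom.toAlgebra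
      haveI := hloc ⟨⟨⟨V, hV⟩, hVs⟩, c, hc⟩
      haveI : IsOpenImmersion (Spec.map (φ.hom.app (op V) ≫
          Z.presheaf.map (homOfLE (Z.basicOpen_le c)).op)) :=
        IsOpenImmersion.of_isLocalization (S := Γ(Z, Z.basicOpen c)) (y ⟨⟨⟨V, hV⟩, hVs⟩, c, hc⟩)
      infer_instance
    rw [← Category.assoc, ← IsOpenImmersion.isoOfRangeEq_hom_fac _ _ hrng, Category.assoc]
    infer_instance
  exact ⟨B'.spec, j, B'.π, inferInstance, inferInstance, by rw [Category.assoc, hk]⟩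

end Groth.Agent.QCGen12
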