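import Groth.Agent.Lib.ModM1.QCAlgGen
import Mathlib.Topology.Sheaves.SheafCondition.UniqueGluing
import Mathlib.RingTheory.FiniteType

/-!
# The quasi-coherent subalgebra generated by a quasi-coherent submodule
-/

universe u

open CategoryTheory Limits AlgebraicGeometry Opposite TopologicalSpace

set_option backward.isDefEq.respectTransparency false

namespace Groth.Agent.QCGen12

open Groth.Agent.M1

variable {X : Scheme.{u}} {B : RelSpec.QCAlg X} (q : M1.Sub B.toModule)

abbrev bres {U V : X.Opens} (h : V ≤ U) : B.presheaf.obj (op U) ⟶ B.presheaf.obj (op V) :=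
  B.presheaf.map (homOfLE h).op

theorem bres_bres {U V W : X.Opens} (h : V ≤ U) (h' : W ≤ V) (b : B.presheaf.obj (op U)) :
    (bres h').hom ((bres h).hom b) = (bres (h'.trans h)).hom b := by
  rw [← CommRingCat.comp_apply, ← Functor.map_comp]
  rfl

theorem gen_bres {U V : X.Opens} (h : V ≤ U) {b : B.presheaf.obj (op U)} (hb : b ∈ QC.gen q U) :
    (bres h).hom b ∈ QC.gen q V := by
  have : QC.gen q U ≤ (QC.gen q V).comap (bres h).hom := by
    refine Subring.closure_le.mpr ?_
    rintro x (⟨a, rfl⟩ | hx)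
    · rw [SetLike.mem_coe, Subring.mem_comap, bres, ← QC.str_map]; exact QC.str_mem_gen q _ _
    · exact Subring.subset_closure (Or.inr (q.mem_mres h hx))
  exact this hb

/-- Sections which lie in the generated subring near every point. -/
def loc (U : X.Opens) : Subring (B.presheaf.obj (op U)) where
  carrier := {b | ∀ x ∈ U, ∃ (V : X.Opens) (h : V ≤ U), x ∈ V ∧ (bres h).hom b ∈ QC.gen q V}
  zero_mem' x hx := ⟨U, le_rfl, hx, by rw [map_zero]; exact zero_mem _⟩
  one_mem' x hx := ⟨U, le_rfl, hx, by rw [map_one]; exact one_mem _⟩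
  neg_mem' {b} hb x hx := by
    obtain ⟨V, h, hxV, hV⟩ := hb x hx
    exact ⟨V, h, hxV, by rw [map_neg]; exact neg_mem hV⟩
  add_mem' {a b} ha hb x hx := by
    obtain ⟨V, h, hxV, hV⟩ := ha x hx
    obtain ⟨W, h', hxW, hW⟩ := hb x hx
    refine ⟨V ⊓ W, inf_le_left.trans h, ⟨hxV, hxW⟩, ?_⟩
    rw [map_add]
    exact add_mem (bres_bres h inf_le_left a ▸ gen_bres q inf_le_left hV)
      (bres_bres h' inf_le_right b ▸ gen_bres q inf_le_right hW)
  mul_mem' {a b} ha hb x hx := by
    obtain ⟨V, h, hxV, hV⟩ := ha x hx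
    obtain ⟨W, h', hxW, hW⟩ := hb x hx
    refine ⟨V ⊓ W, inf_le_left.trans h, ⟨hxV, hxW⟩, ?_⟩
    rw [map_mul]
    exact mul_mem (bres_bres h inf_le_left a ▸ gen_bres q inf_le_left hV)
      (bres_bres h' inf_le_right b ▸ gen_bres q inf_le_right hW)

theorem gen_le_loc (U : X.Opens) : QC.gen q U ≤ loc q U := fun b hb x hx =>
  ⟨U, le_rfl, hx, gen_bres q le_rfl hb⟩

theorem loc_bres {U V : X.Opens} (h : V ≤ U) {b : B.presheaf.obj (op U)} (hb : b ∈ loc q U) :
    (bres h).hom b ∈ loc q V := by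
  intro x hx
  obtain ⟨W, h', hxW, hW⟩ := hb x (h hx)
  refine ⟨W ⊓ V, inf_le_right, ⟨hxW, hx⟩, ?_⟩
  rw [bres_bres h inf_le_right b, ← bres_bres h' inf_le_left b]
  exact gen_bres q inf_le_left hW

/-- On affine opens, local membership is membership. -/
theorem loc_eq_gen (hq : Coh.IsQCoh q.P) {U : X.Opens} (hU : IsAffineOpen U) :
    loc q U = QC.gen q U := by
  refine le_antisymm (fun b hb => ?_) (gen_le_loc q U)
  let S := {f : Γ(X, U) | ∃ n : ℕ, (B.str.app (op U)).hom f ^ n * b ∈ QC.gen q U}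
  let J : Ideal Γ(X, U) :=
    { carrier := {a | (B.str.app (op U)).hom a * b ∈ QC.gen q U}
      zero_mem' := by simp
      add_mem' := fun {a a'} ha ha' => by
        simp only [Set.mem_setOf_eq, map_add, add_mul] at ha ha' ⊢; exact add_mem ha ha'
      smul_mem' := fun c a ha => by
        simp only [Set.mem_setOf_eq, smul_eq_mul, map_mul, mul_assoc] at ha ⊢
        exact mul_mem (QC.str_mem_gen q U c) ha }
  suffices hJ : J.radical = ⊤ by
    have h1 : (1 : Γ(X, U)) ∈ J := by
      obtain ⟨n, hn⟩ := (hJ ▸ Submodule.mem_top : (1 : Γ(X, U)) ∈ J.radical)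
      rwa [one_pow] at hn
    simpa [J] using h1
  rw [eq_top_iff, ← hU.self_le_iSup_basicOpen_iff.mp (show U ≤ ⨆ f : S, X.basicOpen f.1 from ?_)]
  · refine Ideal.span_le.mpr ?_
    rintro f ⟨n, hn⟩
    exact ⟨n, by change (B.str.app (op U)).hom (f ^ n) * b ∈ QC.gen q U; rwa [map_pow]⟩
  · intro x hx
    obtain ⟨V, hV, hxV, hb'⟩ := hb x hx
    obtain ⟨f, hfV, hxf⟩ := hU.exists_basicOpen_le ⟨x, hxV⟩ hx
    have hf : (bres (X.basicOpen_le f)).hom b ∈ QC.gen q (X.basicOpen f) := by
      rw [← bres_bres hV hfV b]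
      exact gen_bres q hfV hb'
    obtain ⟨n, c, hc, e⟩ := QC.exists_pow_mul_eq hU f hq hf
    letI := (B.presheaf.map (homOfLE (X.basicOpen_le f)).op).hom.toAlgebra
    haveI : IsLocalization.Away ((B.str.app (op U)).hom f) (B.presheaf.obj (op (X.basicOpen f))) :=
      B.isQC U hU f
    rw [← map_pow, ← map_mul] at e
    obtain ⟨⟨_, m, rfl⟩, hm⟩ :=
      (IsLocalization.eq_iff_exists (Submonoid.powers ((B.str.app (op U)).hom f)) _).mp e
    refine Opens.mem_iSup.mpr ⟨⟨f, m + n, ?_⟩, hxf⟩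
    rw [pow_add, mul_assoc]
    exact hm ▸ mul_mem (pow_mem (QC.str_mem_gen q U f) _) hc

/-- The presheaf of sections lying locally in the generated subring. -/
def locPresheaf : TopCat.Presheaf CommRingCat.{u} X.carrier where
  obj U := .of (loc q U.unop)
  map {U V} i := CommRingCat.ofHom ((B.presheaf.map i).hom.restrict _ _ fun b hb =>
    loc_bres q i.unop.le hb)
  map_id U := by
    ext b
    exact ConcreteCategory.congr_hom (B.presheaf.map_id U) b.1
  map_comp {U V W} i j := by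
    ext b
    exact ConcreteCategory.congr_hom (B.presheaf.map_comp i j) b.1

/-- The inclusion. -/
def incl : locPresheaf q ⟶ B.presheaf where
  app U := CommRingCat.ofHom (loc q U.unop).subtype
  naturality U V i := by ext b; rfl

theorem isSheaf_locPresheaf : (locPresheaf q).IsSheaf := by
  refine (TopCat.Presheaf.isSheaf_iff_isSheafUniqueGluing (C := CommRingCat.{u}) _).mpr ?_
  intro ι U sf hsf
  have hc : TopCat.Presheaf.IsCompatible B.presheaf U fun i => (sf i).1 := fun i j =>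
    congrArg Subtype.val (hsf i j)
  obtain ⟨s, hs, huniq⟩ := (TopCat.Presheaf.isSheaf_iff_isSheafUniqueGluing _).mp B.isSheaf U _ hc
  have hmem : s ∈ loc q (iSup U) := by
    intro x hx
    obtain ⟨i, hi⟩ := Opens.mem_iSup.mp hx
    obtain ⟨V, hV, hxV, hV'⟩ := (sf i).2 x hi
    refine ⟨V, hV.trans (le_iSup U i), hxV, ?_⟩
    rw [← bres_bres (le_iSup U i) hV s]
    have : (bres (le_iSup U i)).hom s = (sf i).1 := hs i
    rw [this]
    exact hV'
  refine ⟨⟨s, hmem⟩, fun i => Subtype.ext (hs i), fun t ht => Subtype.ext ?_⟩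
  exact huniq t.1 fun i => congrArg Subtype.val (ht i)

/-- The quasi-coherent subalgebra generated by a quasi-coherent submodule. -/
noncomputable def subAlg (hq : Coh.IsQCoh q.P) : RelSpec.QCAlg X where
  presheaf := locPresheaf q
  isSheaf := isSheaf_locPresheaf q
  str :=
    { app := fun U => CommRingCat.ofHom ((B.str.app U).hom.codRestrict (loc q U.unop) fun a =>
        gen_le_loc q _ (QC.str_mem_gen q U.unop a))
      naturality := fun U V i => by
        ext a
        exact Subtype.ext (ConcreteCategory.congr_hom (B.str.naturality i) a) }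
  isQC U hU r := by
    letI := ((locPresheaf q).map (homOfLE (X.basicOpen_le r)).op).hom.toAlgebra
    letI := (B.presheaf.map (homOfLE (X.basicOpen_le r)).op).hom.toAlgebra
    haveI : IsLocalization.Away ((B.str.app (op U)).hom r) (B.presheaf.obj (op (X.basicOpen r))) :=
      B.isQC U hU r
    refine IsLocalization.Away.mk _ ?_ (fun s => ?_) (fun a b hab => ?_)
    · obtain ⟨v, hv⟩ := isUnit_iff_exists_inv.mp
        (RingedSpace.isUnit_res_basicOpen X.toRingedSpace r)
      refine isUnit_iff_exists_inv.mpr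
        ⟨⟨(B.str.app (op (X.basicOpen r))).hom v, gen_le_loc q _ (QC.str_mem_gen q _ v)⟩, Subtype.ext ?_⟩
      change (bres (X.basicOpen_le r)).hom ((B.str.app (op U)).hom r) * _ = 1
      rw [bres, ← QC.str_map]
      exact ((map_mul _ _ _).symm.trans (congrArg _ hv)).trans (map_one _)
    · have hs : ((incl q).app (op (X.basicOpen r))).hom s ∈ QC.gen q (X.basicOpen r) :=
        (loc_eq_gen q hq (hU.basicOpen r)).le s.2
      obtain ⟨n, c, hc, e⟩ := QC.exists_pow_mul_eq hU r hq hs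
      refine ⟨n, ⟨c, gen_le_loc q _ hc⟩, Subtype.ext ?_⟩
      exact (mul_comm _ _).trans e.symm
    · obtain ⟨⟨_, n, rfl⟩, hn⟩ := (IsLocalization.eq_iff_exists
        (Submonoid.powers ((B.str.app (op U)).hom r)) _).mp (congrArg Subtype.val hab)
      exact ⟨n, Subtype.ext hn⟩

/-- The inclusion of the generated subalgebra. -/
noncomputable def subAlgHom (hq : Coh.IsQCoh q.P) : subAlg q hq ⟶ B := ⟨incl q, rfl⟩

theorem finiteType_subAlg (hq : Coh.IsQCoh q.P) (hq' : CohB1.IsFT q.P) (U : X.affineOpens) :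
    ((subAlg q hq).str.app (op U.1)).hom.FiniteType := by
  classical
  haveI := finite_sections hq hq' U.2
  obtain ⟨t, ht⟩ := (Module.Finite.fg_top (R := Γ(X, U.1)) (M := Γ(q.P, U.1)))
  letI : Algebra Γ(X, U.1) (loc q U.1) := ((subAlg q hq).str.app (op U.1)).hom.toAlgebra
  let g : Γ(q.P, U.1) → loc q U.1 := fun m =>
    ⟨QC.sec B (q.i.app U.1 m), gen_le_loc q _ (Subring.subset_closure (Or.inr ⟨m, rfl⟩))⟩
  change Algebra.FiniteType Γ(X, U.1) (loc q U.1)
  refine ⟨⟨t.image g, ?_⟩⟩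
  rw [Finset.coe_image, eq_top_iff]
  rintro ⟨b, hb⟩ -
  have key : ∀ b ∈ QC.gen q U.1, ∃ a ∈ Algebra.adjoin Γ(X, U.1) (g '' t), (a : B.presheaf.obj _) = b := by
    intro b hb
    induction hb using Subring.closure_induction with
    | mem x hx =>
      rcases hx with ⟨a, rfl⟩ | ⟨m, rfl⟩
      · exact ⟨algebraMap Γ(X, U.1) (loc q U.1) a, Subalgebra.algebraMap_mem _ a, rfl⟩
      · have hm : m ∈ Submodule.span Γ(X, U.1) (t : Set Γ(q.P, U.1)) := ht ▸ Submodule.mem_top
        refine Submodule.span_induction (fun m hm => ?_) ?_ (fun m m' _ _ hm hm' => ?_)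
          (fun r m _ hm => ?_) hm
        · exact ⟨g m, Algebra.subset_adjoin ⟨m, hm, rfl⟩, rfl⟩
        · exact ⟨0, zero_mem _, (map_zero (q.i.app U.1).hom).symm⟩
        · obtain ⟨a, ha, e⟩ := hm
          obtain ⟨a', ha', e'⟩ := hm'
          refine ⟨a + a', add_mem ha ha', ?_⟩
          refine Eq.trans ?_ (map_add (q.i.app U.1).hom m m').symm
          exact congrArg₂ (· + ·) e e'
        · obtain ⟨a, ha, e⟩ := hm
          refine ⟨algebraMap _ _ r * a, mul_mem (Subalgebra.algebraMap_mem _ r) ha, ?_⟩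
          rw [Scheme.Modules.Hom.app_smul, ← e]
          rfl
    | zero => exact ⟨0, zero_mem _, rfl⟩
    | one => exact ⟨1, one_mem _, rfl⟩
    | add x y _ _ hx hy =>
      obtain ⟨a, ha, rfl⟩ := hx
      obtain ⟨a', ha', rfl⟩ := hy
      exact ⟨a + a', add_mem ha ha', rfl⟩
    | neg x _ hx =>
      obtain ⟨a, ha, rfl⟩ := hx
      exact ⟨-a, neg_mem ha, rfl⟩
    | mul x y _ _ hx hy =>
      obtain ⟨a, ha, rfl⟩ := hx
      obtain ⟨a', ha', rfl⟩ := hy
      exact ⟨a * a', mul_mem ha ha', rfl⟩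
  obtain ⟨a, ha, e⟩ := key b ((loc_eq_gen q hq U.2).le hb)
  rwa [show (⟨b, hb⟩ : loc q U.1) = a from Subtype.ext e.symm]

/-- A finite type subalgebra through finitely many sections. -/
theorem exists_subalgebra [CompactSpace X] [QuasiSeparatedSpace X] (B : RelSpec.QCAlg X)
    (L : List (Σ V : X.affineOpens, B.presheaf.obj (op V.1))) :
    ∃ (B' : RelSpec.QCAlg X) (φ : B' ⟶ B),
      (∀ V : X.Opens, Function.Injective (φ.hom.app (op V)).hom) ∧
      (∀ V : X.affineOpens, (B'.str.app (op V.1)).hom.FiniteType) ∧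
      ∀ a ∈ L, a.2 ∈ Set.range (φ.hom.app (op a.1.1)).hom := by
  have hF := QC.isQCoh_toModule B
  have key : ∀ L : List (Σ V : X.affineOpens, B.presheaf.obj (op V.1)),
      ∃ q : M1.Sub B.toModule, Coh.IsQCoh q.P ∧ CohB1.IsFT q.P ∧ ∀ a ∈ L, q.mem a.1.1 a.2 := by
    intro L
    induction L with
    | nil =>
      obtain ⟨q, hq, hq'⟩ := Sub.exists_zero hF
      exact ⟨q, hq, hq', by simp⟩
    | cons a L ih =>
      obtain ⟨p, hp, hp', hL⟩ := ih
      obtain ⟨q, hq, hq', ha⟩ := Sub.exists_through_section hF a.1 a.2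
      obtain ⟨r, hr, hr', h1, h2⟩ := Sub.exists_sup hF hp hp' hq hq'
      refine ⟨r, hr, hr', fun b hb => ?_⟩
      rcases List.mem_cons.mp hb with rfl | hb
      exacts [h2 _ _ ha, h1 _ _ (hL b hb)]
  obtain ⟨q, hq, hq', hL⟩ := key L
  exact ⟨subAlg q hq, subAlgHom q hq, fun V => Subtype.val_injective,
    fun V => finiteType_subAlg q hq hq' V,
    fun a ha => ⟨⟨a.2, gen_le_loc q _ (Subring.subset_closure (Or.inr (hL a ha)))⟩, rfl⟩⟩

end Groth.Agent.QCGen12
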