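import Groth.Agent.Lib.QCGen12.Basic
import Groth.Agent.Lib.QCGen12.Lift
import Groth.Agent.Lib.FibreTop.FiniteFactor
import Mathlib.AlgebraicGeometry.Morphisms.ClosedImmersion
import Mathlib.AlgebraicGeometry.Morphisms.FiniteType

/-!
# Immersions into relative spectra descend to finite type subalgebras
-/

universe u

open CategoryTheory Limits AlgebraicGeometry Opposite TopologicalSpace

set_option backward.isDefEq.respectTransparency false
set_option backward.isDefEq.respectTransparency.types false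

namespace Groth.Agent.QCGen12

open RelSpec

theorem locallyOfFiniteType_π {S : Scheme.{u}} (A : QCAlg S)
    (h : ∀ V : S.affineOpens, (A.str.app (op V.1)).hom.FiniteType) : LocallyOfFiniteType A.π := by
  refine IsZariskiLocalAtSource.of_openCover A.glueData.cover fun V => ?_
  change LocallyOfFiniteType (A.ι V.1 V.2 ≫ A.π)
  rw [A.ι_π]
  haveI : LocallyOfFiniteType (Spec.map (A.str.app (op V.1))) :=
    (HasRingHomProperty.Spec_iff (P := @LocallyOfFiniteType)).2 (h ⟨V.1, V.2⟩)
  infer_instance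

/-- The chart data of an immersion near a point. -/
theorem exists_chart {X Z : Scheme.{u}} (g : X ⟶ Z) [IsImmersion g] {R : CommRingCat.{u}}
    (e : Spec R ⟶ Z) [IsOpenImmersion e] (c : R)
    (hc : e ''ᵁ PrimeSpectrum.basicOpen c ≤ g.coborderRange) :
    ∃ (A : CommRingCat.{u}) (a : R ⟶ A) (i : Spec A ⟶ X) (_ : IsOpenImmersion i),
      i.opensRange = g ⁻¹ᵁ (e ''ᵁ PrimeSpectrum.basicOpen c) ∧ i ≫ g = Spec.map a ≫ e ∧
      IsUnit (a.hom c) ∧
      ∀ z : A, ∃ (r : R) (n : ℕ), z * a.hom c ^ n = a.hom r := by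
  let D := e ''ᵁ PrimeSpectrum.basicOpen c
  have hD : IsAffineOpen D := ((IsAffineOpen.Spec_basicOpen c).image_of_isOpenImmersion e)
  let D' : g.coborderRange.toScheme.Opens := g.coborderRange.ι ⁻¹ᵁ D
  have hD' : IsAffineOpen D' := by
    refine g.coborderRange.ι.isAffineOpen_iff_of_isOpenImmersion.1 ?_
    rw [Scheme.Hom.image_preimage_eq_opensRange_inf, Scheme.Opens.opensRange_ι, inf_eq_right.2 hc]
    exact hD
  have hE : IsAffineOpen (g ⁻¹ᵁ D) := by
    have h := hD'.preimage g.liftCoborder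
    rwa [← Scheme.Hom.comp_preimage, g.liftCoborder_ι] at h
  let i := hE.fromSpec
  have hrange : Set.range (i ≫ g) ⊆ Set.range e := by
    rintro _ ⟨z, rfl⟩
    have hz : i z ∈ g ⁻¹ᵁ D := hE.range_fromSpec.subset ⟨z, rfl⟩
    obtain ⟨r, -, hr⟩ := hz
    exact ⟨r, hr⟩
  let m := IsOpenImmersion.lift e (i ≫ g) hrange
  have hm : m ≫ e = i ≫ g := IsOpenImmersion.lift_fac ..
  obtain ⟨a, ha⟩ := Spec.map_surjective m
  haveI : IsImmersion (m ≫ e) := by rw [hm]; infer_instance
  haveI : IsImmersion m := IsImmersion.of_comp m e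
  have hmc : ∀ z, m z ∈ PrimeSpectrum.basicOpen c := by
    intro z
    have hz : i z ∈ g ⁻¹ᵁ D := hE.range_fromSpec.subset ⟨z, rfl⟩
    obtain ⟨r, hr, hr'⟩ := hz
    rwa [show r = m z from e.isOpenEmbedding.injective
      (hr'.trans (show g (i z) = e (m z) by rw [← Scheme.Hom.comp_apply, ← Scheme.Hom.comp_apply, hm]))] at hr
  clear_value m
  subst ha
  have hunit : IsUnit (a.hom c) := by
    by_contra h
    obtain ⟨p, hp, hcp⟩ := exists_max_ideal_of_mem_nonunits h
    exact hmc ⟨p, hp.isPrime⟩ hcp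
  refine ⟨_, a, i, inferInstance, hE.opensRange_fromSpec, hm.symm, hunit, ?_⟩
  let b : Localization.Away c →+* Γ(X, g ⁻¹ᵁ D) := IsLocalization.Away.lift c hunit
  have hb : b.comp (algebraMap R (Localization.Away c)) = a.hom := IsLocalization.Away.lift_comp c hunit
  let l : Spec (.of (Localization.Away c)) ⟶ Spec R :=
    Spec.map (CommRingCat.ofHom (algebraMap R (Localization.Away c)))
  haveI : IsOpenImmersion l := IsOpenImmersion.of_isLocalization c
  have hl : Spec.map (CommRingCat.ofHom b) ≫ l = Spec.map a := by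
    rw [← Spec.map_comp, ← CommRingCat.ofHom_comp, hb]
    rfl
  haveI : IsImmersion (Spec.map (CommRingCat.ofHom b) ≫ l) := by rw [hl]; infer_instance
  haveI : IsImmersion (Spec.map (CommRingCat.ofHom b)) := IsImmersion.of_comp _ l
  have hclosed : IsClosed (Set.range (Spec.map (CommRingCat.ofHom b))) := by
    have hset : Set.range (Spec.map (CommRingCat.ofHom b)) =
        (fun p => e (l p)) ⁻¹' Set.range g := by
      ext p
      constructor
      · rintro ⟨z, rfl⟩
        refine ⟨i z, ?_⟩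
        have e1 : (Spec.map (CommRingCat.ofHom b) ≫ l) ≫ e = i ≫ g := by rw [hl, hm]
        exact (congrArg (fun k => k z) e1).symm
      · rintro ⟨x, hx⟩
        have hxD : x ∈ g ⁻¹ᵁ D := by
          refine ⟨l p, ?_, hx.symm⟩
          exact (PrimeSpectrum.localization_away_comap_range (Localization.Away c) c).subset ⟨p, rfl⟩
        obtain ⟨z, rfl⟩ := hE.range_fromSpec.symm.subset hxD
        refine ⟨z, l.isOpenEmbedding.injective (e.isOpenEmbedding.injective ?_)⟩
        refine Eq.trans ?_ hx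
        have e1 : (Spec.map (CommRingCat.ofHom b) ≫ l) ≫ e = i ≫ g := by rw [hl, hm]
        exact congrArg (fun k => k z) e1
    rw [hset]
    have hcl : IsClosed (Set.range g.liftCoborder) := g.liftCoborder.isClosedEmbedding.isClosed_range
    have hsub : ∀ p, e (l p) ∈ g.coborderRange := fun p =>
      hc ⟨l p, (PrimeSpectrum.localization_away_comap_range (Localization.Away c) c).subset ⟨p, rfl⟩, rfl⟩
    have : (fun p => e (l p)) ⁻¹' Set.range g =
        (fun p => (⟨e (l p), hsub p⟩ : g.coborderRange.toScheme)) ⁻¹' Set.range g.liftCoborder := by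
      ext p
      constructor
      · rintro ⟨x, hx⟩
        refine ⟨x, g.coborderRange.ι.isOpenEmbedding.injective ?_⟩
        rw [← Scheme.Hom.comp_apply, g.liftCoborder_ι]
        exact hx
      · rintro ⟨x, hx⟩
        refine ⟨x, ?_⟩
        have := congrArg g.coborderRange.ι hx
        rwa [← Scheme.Hom.comp_apply, g.liftCoborder_ι] at this
    rw [this]
    exact hcl.preimage (((e.continuous.comp l.continuous)).subtype_mk hsub)
  haveI : IsClosedImmersion (Spec.map (CommRingCat.ofHom b)) := .of_isPreimmersion _ hclosed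
  have hsurj : Function.Surjective b := by
    have h1 := (IsClosedImmersion.isAffine_surjective_of_isAffine
      (f := Spec.map (CommRingCat.ofHom b))).2
    have h2 : CommRingCat.ofHom b = (Scheme.ΓSpecIso _).inv ≫
        (Spec.map (CommRingCat.ofHom b)).appTop ≫ (Scheme.ΓSpecIso _).hom := by
      rw [Scheme.ΓSpecIso_naturality, Iso.inv_hom_id_assoc]
    have h3 := congrArg CommRingCat.Hom.hom h2
    rw [CommRingCat.hom_ofHom] at h3
    rw [h3, CommRingCat.hom_comp, CommRingCat.hom_comp]
    exact (ConcreteCategory.bijective_of_isIso (Scheme.ΓSpecIso _).hom).2.comp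
      (h1.comp (ConcreteCategory.bijective_of_isIso (Scheme.ΓSpecIso _).inv).2)
  intro z
  obtain ⟨w, rfl⟩ := hsurj z
  obtain ⟨⟨r, ⟨_, n, rfl⟩⟩, hr⟩ := IsLocalization.surj (Submonoid.powers c) w
  refine ⟨r, n, ?_⟩
  rw [← hb, RingHom.comp_apply, RingHom.comp_apply, ← map_pow, ← map_mul, ← map_pow]
  exact congrArg b hr

/-- An immersion into a relative spectrum, of finite type over the base, stays an immersion after
passing to a suitable finite type subalgebra. -/
theorem exists_subalgebra_isImmersion {X S : Scheme.{u}} [CompactSpace S] [QuasiSeparatedSpace S]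
    (C : QCAlg S) (g : X ⟶ C.spec) [IsImmersion g] [LocallyOfFiniteType (g ≫ C.π)]
    [QuasiCompact (g ≫ C.π)] :
    ∃ (C' : QCAlg S) (φ : C' ⟶ C),
      (∀ U : S.Opens, Function.Injective (φ.hom.app (op U)).hom) ∧
      (∀ U : S.affineOpens, (C'.str.app (op U.1)).hom.FiniteType) ∧
      IsImmersion (g ≫ QCAlg.specMap φ) := by
  classical
  haveI : CompactSpace X := QuasiCompact.compactSpace_of_compactSpace (g ≫ C.π)
  have hx : ∀ x : X, ∃ (U : S.affineOpens) (c : C.presheaf.obj (op U.1)),
      g x ∈ C.ι U.1 U.2 ''ᵁ PrimeSpectrum.basicOpen c ∧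
      C.ι U.1 U.2 ''ᵁ PrimeSpectrum.basicOpen c ≤ g.coborderRange := by
    intro x
    obtain ⟨U, hU, hxU, -⟩ := exists_isAffineOpen_mem_and_subset (x := C.π (g x)) (U := ⊤) trivial
    have hp : g x ∈ (C.ι U hU).opensRange := by rw [← C.π_preimage U hU]; exact hxU
    obtain ⟨p, hp⟩ := hp
    have hpO : p ∈ C.ι U hU ⁻¹ᵁ g.coborderRange := by
      show C.ι U hU p ∈ g.coborderRange
      rw [hp]
      exact subset_coborder ⟨x, rfl⟩
    obtain ⟨_, ⟨c, rfl⟩, hpc, hsub⟩ :=
      PrimeSpectrum.isTopologicalBasis_basic_opens.exists_subset_of_mem_open hpO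
        (C.ι U hU ⁻¹ᵁ g.coborderRange).2
    refine ⟨⟨U, hU⟩, c, ⟨p, hpc, hp⟩, ?_⟩
    rintro _ ⟨q, hq, rfl⟩
    exact hsub hq
  choose U c hgx hcO using hx
  choose A a i hi hir hia hunit hsur using fun x : X => exists_chart g (C.ι (U x).1 (U x).2) (c x) (hcO x)
  obtain ⟨t, ht⟩ := isCompact_univ.elim_finite_subcover (fun x => ((i x).opensRange : Set X))
    (fun x => (i x).opensRange.2) fun x _ => Set.mem_iUnion.2 ⟨x, by rw [hir]; exact hgx x⟩
  choose num n hnum using hsur
  have hgens : ∀ x : X, ∃ l : List (C.presheaf.obj (op (U x).1)),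
      ∀ (C' : QCAlg S) (φ : C' ⟶ C), Function.Injective (φ.hom.app (op (U x).1)).hom →
        (∀ b ∈ l, b ∈ Set.range (φ.hom.app (op (U x).1)).hom) →
        ∃ y, (φ.hom.app (op (U x).1)).hom y = c x ∧
          IsImmersion (Spec.map (φ.hom.app (op (U x).1) ≫ a x)) := by
    intro x
    have hft : (C.str.app (op (U x).1) ≫ a x).hom.FiniteType := by
      haveI : LocallyOfFiniteType (Spec.map (C.str.app (op (U x).1) ≫ a x) ≫ (U x).2.fromSpec) := by
        rw [Spec.map_comp, Category.assoc, ← C.ι_π, ← reassoc_of% (hia x)]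
        infer_instance
      haveI := locallyOfFiniteType_of_comp (Spec.map (C.str.app (op (U x).1) ≫ a x)) (U x).2.fromSpec
      exact (HasRingHomProperty.Spec_iff (P := @LocallyOfFiniteType)).1 ‹_›
    letI := (C.str.app (op (U x).1) ≫ a x).hom.toAlgebra
    haveI : Algebra.FiniteType Γ(S, (U x).1) (A x) := hft
    obtain ⟨G, hG⟩ := (Algebra.FiniteType.out : (⊤ : Subalgebra Γ(S, (U x).1) (A x)).FG)
    refine ⟨c x :: G.toList.map (num x), fun C' φ hφ hl => ?_⟩
    obtain ⟨y, hy⟩ := hl (c x) (List.mem_cons_self ..)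
    refine ⟨y, hy, ?_⟩
    let φ' := φ.hom.app (op (U x).1) ≫ a x
    have huy : IsUnit (φ'.hom y) := by
      show IsUnit ((a x).hom ((φ.hom.app (op (U x).1)).hom y))
      rw [hy]; exact hunit x
    let b : Localization.Away y →+* A x := IsLocalization.Away.lift y huy
    have hb : b.comp (algebraMap _ _) = φ'.hom := IsLocalization.Away.lift_comp y huy
    have hsurj : Function.Surjective b := by
      intro z
      have hz : z ∈ Algebra.adjoin Γ(S, (U x).1) (G : Set (A x)) := hG ▸ Algebra.mem_top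
      induction hz using Algebra.adjoin_induction with
      | mem z hz =>
        obtain ⟨r, hr⟩ := hl (num x z) (List.mem_cons_of_mem _
          (List.mem_map.2 ⟨z, Finset.mem_toList.2 hz, rfl⟩))
        refine ⟨IsLocalization.mk' (Localization.Away y) r (⟨y ^ n x z, n x z, rfl⟩ : Submonoid.powers y), ?_⟩
        show IsLocalization.lift _ _ = z
        rw [IsLocalization.lift_mk'_spec]
        show (a x).hom ((φ.hom.app _).hom r) = (a x).hom ((φ.hom.app _).hom (y ^ n x z)) * z
        rw [hr, map_pow, hy, map_pow, mul_comm]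
        exact (hnum x z).symm
      | algebraMap r =>
        refine ⟨algebraMap _ _ ((C'.str.app (op (U x).1)).hom r), ?_⟩
        rw [← RingHom.comp_apply, hb]
        exact congrArg (a x).hom (ConcreteCategory.congr_hom (NatTrans.congr_app φ.comm _) r)
      | add z w _ _ hz hw =>
        obtain ⟨p, rfl⟩ := hz
        obtain ⟨q, rfl⟩ := hw
        exact ⟨p + q, map_add b p q⟩
      | mul z w _ _ hz hw =>
        obtain ⟨p, rfl⟩ := hz
        obtain ⟨q, rfl⟩ := hw
        exact ⟨p * q, map_mul b p q⟩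
    have e : φ' = CommRingCat.ofHom (algebraMap _ (Localization.Away y)) ≫ CommRingCat.ofHom b := by
      rw [← CommRingCat.ofHom_comp, hb]
      rfl
    show IsImmersion (Spec.map φ')
    rw [e, Spec.map_comp]
    haveI : IsOpenImmersion (Spec.map (CommRingCat.ofHom
        (algebraMap (C'.presheaf.obj (op (U x).1)) (Localization.Away y)))) :=
      IsOpenImmersion.of_isLocalization y
    haveI : IsClosedImmersion (Spec.map (CommRingCat.ofHom b)) := .spec_of_surjective _ hsurj
    infer_instance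
  choose l hl using hgens
  obtain ⟨C', φ, hinj, hfin, hmem⟩ := exists_subalgebra C
    (t.toList.flatMap fun x => (l x).map fun b => ⟨U x, b⟩)
  refine ⟨C', φ, hinj, hfin, ?_⟩
  choose y hy himm using fun x : t => hl x.1 C' φ (hinj _) fun b hb => hmem ⟨U x.1, b⟩ (by
    simp only [List.mem_flatMap, List.mem_map, Finset.mem_toList]
    exact ⟨x.1, x.2, b, hb, rfl⟩)
  let O : t → C'.spec.Opens := fun x =>
    C'.ι (U x.1).1 (U x.1).2 ''ᵁ PrimeSpectrum.basicOpen (y x)
  have hpre : ∀ x, (g ≫ QCAlg.specMap φ) ⁻¹ᵁ O x = (i x.1).opensRange := by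
    intro x
    rw [hir, Scheme.Hom.comp_preimage]
    congr 1
    have hle : QCAlg.specMap φ ⁻¹ᵁ O x ≤ (C.ι (U x.1).1 (U x.1).2).opensRange := by
      refine le_trans ((QCAlg.specMap φ).preimage_mono (Scheme.Hom.image_le_opensRange _ _)) ?_
      rw [← C'.π_preimage _ (U x.1).2, ← Scheme.Hom.comp_preimage, QCAlg.specMap_π, C.π_preimage _ (U x.1).2]
    rw [← inf_eq_right.2 hle, ← Scheme.Hom.image_preimage_eq_opensRange_inf,
      ← Scheme.Hom.comp_preimage, QCAlg.ι_specMap, Scheme.Hom.comp_preimage,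
      Scheme.Hom.preimage_image_eq]
    congr 1
    exact congrArg PrimeSpectrum.basicOpen (hy x)
  refine FibreTop.isImmersion_of_restrict _ O (fun z => ?_) fun x => ?_
  · obtain ⟨x, hxt, hz⟩ := Set.mem_iUnion₂.1 (ht (Set.mem_univ z))
    refine ⟨⟨x, hxt⟩, ?_⟩
    rw [← hpre ⟨x, hxt⟩] at hz
    exact hz
  · suffices IsImmersion (((g ≫ QCAlg.specMap φ) ⁻¹ᵁ O x).ι ≫ g ≫ QCAlg.specMap φ) by
      haveI : IsImmersion ((g ≫ QCAlg.specMap φ) ∣_ O x ≫ (O x).ι) := by
        rw [morphismRestrict_ι]; exact this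
      exact IsImmersion.of_comp _ (O x).ι
    haveI := hi x.1
    haveI := himm x
    haveI : IsImmersion (i x.1 ≫ g ≫ QCAlg.specMap φ) := by
      rw [reassoc_of% (hia x.1), QCAlg.ι_specMap, ← Category.assoc, ← Spec.map_comp]
      infer_instance
    have hrng : Set.range (((g ≫ QCAlg.specMap φ) ⁻¹ᵁ O x).ι) = Set.range (i x.1) := by
      rw [Scheme.Opens.range_ι, hpre]
      rfl
    rw [← IsOpenImmersion.isoOfRangeEq_hom_fac _ _ hrng, Category.assoc]
    infer_instance

end Groth.Agent.QCGen12
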