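import Groth.Agent.Lib.QCGen12.Immersion
import Mathlib.AlgebraicGeometry.QuasiAffine

/-!
# Quasi-affine morphisms and their affinization
-/

universe u

open CategoryTheory Limits AlgebraicGeometry Opposite TopologicalSpace

set_option backward.isDefEq.respectTransparency false
set_option backward.isDefEq.respectTransparency.types false

namespace Groth.Agent.QCGen12

open RelSpec

variable {X Y : Scheme.{u}} (f : X ⟶ Y)
  (hqa : ∀ V : Y.Opens, IsAffineOpen V → Scheme.IsQuasiAffine (f ⁻¹ᵁ V : Scheme.{u}))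

include hqa in
theorem isSeparated_of_quasiAffine : IsSeparated f := by
  refine IsZariskiLocalAtTarget.of_iSup_eq_top (fun V : Y.affineOpens => V.1)
    (iSup_affineOpens_eq_top Y) fun V => ?_
  haveI := hqa V.1 V.2
  haveI : IsAffine V.1 := V.2
  infer_instance

include hqa in
theorem isImmersion_lift_of_quasiAffine [QuasiCompact f] [QuasiSeparated f] :
    IsImmersion (lift (QCAlg.directImage f) f (𝟙 _)) := by
  let C := QCAlg.directImage f
  let g : X ⟶ C.spec := lift C f (𝟙 _)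
  have hg : g ≫ C.π = f := lift_π C f (𝟙 _) (Category.comp_id _)
  have hpre : ∀ V : Y.affineOpens, g ⁻¹ᵁ (C.ι V.1 V.2).opensRange = f ⁻¹ᵁ V.1 := fun V => by
    rw [← C.π_preimage, ← Scheme.Hom.comp_preimage, hg]
  refine FibreTop.isImmersion_of_restrict _ (fun V : Y.affineOpens => (C.ι V.1 V.2).opensRange)
    (fun x => ?_) fun V => ?_
  · obtain ⟨U, hU, hxU, -⟩ := exists_isAffineOpen_mem_and_subset (x := f x) (U := ⊤) trivial
    refine ⟨⟨U, hU⟩, ?_⟩
    show x ∈ g ⁻¹ᵁ (C.ι U hU).opensRange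
    rw [hpre ⟨U, hU⟩]
    exact hxU
  · haveI := hqa V.1 V.2
    haveI : IsImmersion (f ⁻¹ᵁ V.1).toSpecΓ := by
      delta Scheme.Opens.toSpecΓ
      infer_instance
    haveI : IsImmersion ((f ⁻¹ᵁ V.1).ι ≫ g) := by
      rw [ι_lift C f (𝟙 _) V.1 V.2]
      show IsImmersion ((f ⁻¹ᵁ V.1).toSpecΓ ≫
        Spec.map (𝟙 Γ(X, f ⁻¹ᵁ V.1)) ≫ C.ι V.1 V.2)
      rw [Spec.map_id]
      erw [Category.id_comp]
      infer_instance
    suffices IsImmersion ((g ⁻¹ᵁ (C.ι V.1 V.2).opensRange).ι ≫ g) by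
      haveI : IsImmersion (g ∣_ (C.ι V.1 V.2).opensRange ≫ (C.ι V.1 V.2).opensRange.ι) := by
        rw [morphismRestrict_ι]; exact this
      exact IsImmersion.of_comp _ (C.ι V.1 V.2).opensRange.ι
    rw [hpre V]
    infer_instance

end Groth.Agent.QCGen12
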